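import Cfsg.Agent.Omega.NO3S.TwoOne.PE.Glue
import Cfsg.Agent.Omega.NO3S.TwoOne.SigI
import Cfsg.Agent.Omega.NO3S.TwoOne.InstD
import Cfsg.Agent.Omega.NO3S.TwoOne.SG.AlphaPair

/-!
# NO-3S, `q = 2`, `n = 1`, no `λ`-transvections, `|A| ≥ 4`: the instance of `PP.Gen` and `D_x > I` (helper409's #19417)

* `One.pp_gen` : helper885's structure `PP.Gen`; `One.pe_dat` : `PE.Dat` from `part`;
* `One.dd_big` : `D_z > I` is impossible (planes allowed).
-/

set_option autoImplicit false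
set_option linter.unusedSectionVars false

namespace Cfsg.Agent.Omega.NO3S.TwoOne

open Subgroup Cfsg Cfsg.Agent.ZN Cfsg.Agent.MinSimple.Geo Cfsg.Agent.Omega.CaseL
open Cfsg.Agent.Omega.NO3S.Fit

universe u

variable {G : Type u} [Group G]

namespace One

variable {T V : Subgroup G} {z : G} {M H : Type u} [AddCommGroup M] [Group H] [DistribMulAction H M]
  (h : One T V z) (R : MRep V cg z M H) {y : G} (hy : y ∈ V) (hy1 : y ≠ 1) (hyz : y ≠ z)
include h hy hy1 hyz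

/-- the record `PP.Gen` -/
theorem pp_gen [Finite G] [Finite H] (hN : NT V) (h4 : 4 ≤ (ee V z).relIndex (ws V z)) :
    PP.Gen (LL R y) (AA R y) (II R y) (AL R y) where
  two := h.rp_two R
  zero := fun h0 => h.in_ne R hy hy1 hyz h0 rfl
  gen := h.in_gen R hy hy1 hyz
  smul := fun x _ hl => smul_mem_LL R y x hl
  trans := fun hl hm => trans_LL R y hl hm
  A_conj := fun _ _ _ hl ha => h.in_A_conj R hy hy1 hyz hl ha
  I_conj := fun x _ _ hl hu => h.in_I_conj R hy hy1 hyz hl x hu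
  sq := fun hl ha => h.in_sq R hy hy1 hyz hl ha
  four := fun hl => by rw [h.in_card R hy hy1 hyz hl]; exact h4
  self := fun hl => h.in_self R hy hy1 hyz hl
  comm := fun hl ha m => h.in_comm R hy hy1 hyz hl ha m
  fix := fun hl ha hu => h.in_fix R hy hy1 hyz hl ha hu
  al_mem := fun hl m => h.in_al_mem R hy hy1 hyz hl m
  al_add := fun hl m m' => h.in_al_add R hy hy1 hyz hl m m'
  al_surj := fun hl ha => h.in_al_surj R hy hy1 hyz hl ha
  al_smul := fun x _ hl m => h.in_al_conj R hy hy1 hyz hl x m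
  al_ker := fun hl m => h.in_al_ker R hy hy1 hyz hN hl m
  sy := fun hl m m' => h.in_sy R hy hy1 hyz hl m m'
  phi := fun hl ha ha1 => h.in_phi R hy hy1 hyz hN hl ha ha1
  Kt := fun hl hu hu0 hul => by
    obtain ⟨c, h1, h2, h3, -⟩ := h.in_Kt R hy hy1 hyz hl hu hu0 hul
    exact ⟨c, h1, h2, h3⟩
  nrm := fun hl hx => h.in_norm R hy hy1 hyz hl hx
  s1 := fun hl hm h1 h2 _ he he' => h.in_s1 R hy hy1 hyz hN hl hm h1 h2 he he'
  s3 := fun hl hm h1 h2 h3 _ he => h.in_s3 R hy hy1 hyz hN hl hm h1 h2 h3 he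
  alpha := fun hl hm h1 h2 _ hu hu' hu0 => h.m_alpha_pair hN R hy hy1 hyz hl hm h1 h2 hu hu' hu0
  kappa := fun {l m} hl hm _ h2 x h3 h4' hf => by
    obtain ⟨u, hu0, hu, hu'⟩ := h.m_kappa' hN R hy hy1 hyz hl hm h2 (v := x)
      (fun e => h3 (eq_of_sub_eq_zero (by rw [sub_eq_add_neg, h.rp_neg R]; exact e)))
      (fun e => h4' (by
        rw [add_comm x l]
        exact eq_add_of_sub_eq (by rw [sub_eq_add_neg, h.rp_neg R]; exact e))) hf
    exact ⟨u, hu, hu', hu0⟩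
  bs := fun {l a} hl ha ha1 => by
    obtain ⟨o, h1, h2, h3⟩ := h.in_bs R hy hy1 hyz hl ha ha1
    refine ⟨o, h1, h2, ?_⟩
    rwa [inv_eq_of_mul_eq_one_left (h.in_sq R hy hy1 hyz hl ha)] at h3

/-- the record `PE.Dat` -/
theorem pe_dat [Finite G] [Finite H] (hN : NT V) (h4 : 4 ≤ (ee V z).relIndex (ws V z))
    (part : ∀ {l m : M}, l ∈ LL R y → m ∈ LL R y → AL R y l m ≠ 1 → AL R y m l ≠ 1 →
      AL R y l m • m = m ∧ ∀ a ∈ AA R y l, AL R y m (a • m + m) = 1) :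
    PE.Dat (LL R y) (AA R y) (II R y) (AL R y) := (h.pp_gen R hy hy1 hyz hN h4).toPE part

omit hy hy1 hyz in
/-- `|A| ≥ 4`, no `λ`-transvections, `D_z > I` is impossible (planes allowed) -/
theorem dd_big [Finite G] (hN : NT V) (h4 : 4 ≤ (ee V z).relIndex (ws V z)) (hD : ¬ dd V z ≤ ii V) : False := by
  obtain ⟨y, hy, hy1, hyz⟩ := h.ln.exists_y
  obtain ⟨M, H, iM, fM, iH, fH, iA, -, ⟨R⟩⟩ := h.fam.exists_mrep
  exact (h.pp_gen R hy hy1 hyz hN h4).six_false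
    (fun hl hm h1 ha => h.in_nsix R hy hy1 hyz hN hD hl hm h1 ha)
    (fun hl hm h1 => h.in_E_symm R hy hy1 hyz hN hD hl hm h1) (self_mem_LL R y)

end One

end Cfsg.Agent.Omega.NO3S.TwoOne
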