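import Mathlib

/-!
# NO-3S, `TwoOne` / `CompP`, no `λ`-transvections, `|A| ≥ 4`: every S-pair partial is impossible
(helper409's text, bb OMEGA #19417, sections 2 and 3), pure form

`L` the line vectors, `A l` the elementary abelian groups, `I l` = `Ī_l`, `al l : M → A l` with kernel `Ē_l`.
An S-pair: `al l m ≠ 1`, `al m l ≠ 1`.

* `Dat.fix_cases` (S2) : `C_{A_l}(m) = {1, al l m}`;
* `Dat.two_one` (2.1), `Dat.two_two` (2.2), `Dat.two_three` (2.3): `[m, A_l] ≤ S(al l m)`, where `S(b)` = `Dat.Sb` is the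
  subspace `{m ∈ L | b ∈ A m} ∪ {0}`.
-/

set_option autoImplicit false
set_option linter.unusedSimpArgs false
set_option linter.unusedSectionVars false

namespace Cfsg.Agent.Omega.NO3S.TwoOne.PE

/-- the data of #19417, all S-pairs partial -/
structure Dat {M H : Type*} [AddCommGroup M] [Group H] [DistribMulAction H M] (L : Set M) (A : M → Subgroup H)
    (I : M → AddSubgroup M) (al : M → M → H) : Prop where
  two : ∀ m : M, m + m = 0
  zero : (0 : M) ∉ L
  smul : ∀ (h : H) {l : M}, l ∈ L → h • l ∈ L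
  trans : ∀ {l m : M}, l ∈ L → m ∈ L → ∃ h : H, h • l = m
  A_conj : ∀ (h : H) {l : M} {a : H}, l ∈ L → a ∈ A l → h * a * h⁻¹ ∈ A (h • l)
  I_conj : ∀ (h : H) {l u : M}, l ∈ L → u ∈ I l → h • u ∈ I (h • l)
  sq : ∀ {l : M} {a : H}, l ∈ L → a ∈ A l → a * a = 1
  self : ∀ {l : M}, l ∈ L → l ∈ I l
  comm : ∀ {l : M} {a : H}, l ∈ L → a ∈ A l → ∀ m : M, a • m + m ∈ I l
  fix : ∀ {l : M} {a : H} {u : M}, l ∈ L → a ∈ A l → u ∈ I l → a • u = u
  al_mem : ∀ {l : M}, l ∈ L → ∀ m, al l m ∈ A l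
  al_add : ∀ {l : M}, l ∈ L → ∀ m m', al l (m + m') = al l m * al l m'
  al_conj : ∀ {l : M} {h : H}, l ∈ L → h • l = l → ∀ m, al l (h • m) = h * al l m * h⁻¹
  al_ker : ∀ {l : M}, l ∈ L → ∀ m, al l m = 1 ↔ ∀ a ∈ A l, a • m = m ∨ a • m = m + l
  sy : ∀ {l : M}, l ∈ L → ∀ m m', al l m' • m + m + (al l m • m' + m') = 0 ∨
    al l m' • m + m + (al l m • m' + m') = l
  phi : ∀ {l : M} {a : H}, l ∈ L → a ∈ A l → a ≠ 1 → ∃ e, al l e = 1 ∧ a • e = e + l
  /-- (0.1), planes -/
  plane : ∀ {l m : M} {a : H}, l ∈ L → m ∈ L → l ≠ m → a ≠ 1 → a ∈ A l → a ∈ A m → l + m ∈ L ∧ a ∈ A (l + m)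
  /-- THEOREM P -/
  inj : ∀ {l m : M}, l ∈ L → m ∈ L → A l = A m → l = m
  /-- (S1) of #18607 -/
  s1 : ∀ {l m e : M}, l ∈ L → m ∈ L → al l m ≠ 1 → al m l ≠ 1 → al l e = 1 → al l m • e = e →
    ∃ j ∈ I m, al l j = 1 ∧ ∀ a ∈ A l, a • j + j = a • e + e
  /-- Baer-Suzuki -/
  bs : ∀ {l : M} {a : H}, l ∈ L → a ∈ A l → a ≠ 1 → ∃ o : H, o ≠ 1 ∧ Odd (orderOf o) ∧ a * o * a⁻¹ = o⁻¹
  /-- SIGMA_k -/
  sigma : ∀ {l : M} {a o : H}, l ∈ L → a ∈ A l → a ≠ 1 → o ≠ 1 → Odd (orderOf o) → a * o * a⁻¹ = o⁻¹ →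
    o * o * o = 1 ∧ a • (o • l) = o • l + l ∧ al l (o • l) = 1
  /-- every S-pair is partial -/
  part : ∀ {l m : M}, l ∈ L → m ∈ L → al l m ≠ 1 → al m l ≠ 1 →
    al l m • m = m ∧ ∀ a ∈ A l, al m (a • m + m) = 1

namespace Dat

variable {M H : Type*} [AddCommGroup M] [Group H] [DistribMulAction H M] {L : Set M} {A : M → Subgroup H}
    {I : M → AddSubgroup M} {al : M → M → H}

section

variable (D : Dat L A I al)
include D

theorem two_left (x y : M) : x + (x + y) = y := by
  rw [← add_assoc, D.two, zero_add]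

theorem eq_of_add {x y : M} (h : x + y = 0) : x = y := by
  have := D.two_left y x
  rw [add_comm y x, h, add_zero] at this
  exact this.symm

theorem inv {l : M} {a : H} (hl : l ∈ L) (ha : a ∈ A l) : a⁻¹ = a :=
  inv_eq_of_mul_eq_one_left (D.sq hl ha)

theorem A_comm {l : M} {a b : H} (hl : l ∈ L) (ha : a ∈ A l) (hb : b ∈ A l) : a * b = b * a := by
  have h := D.sq hl (mul_mem ha hb)
  calc a * b = (a * b)⁻¹ := (inv_eq_of_mul_eq_one_left h).symm
    _ = b * a := by rw [mul_inv_rev, D.inv hl ha, D.inv hl hb]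

/-- conjugate by an involution fixing `l` -/
theorem A_conj' {l : M} {a h : H} (hl : l ∈ L) (ha : a ∈ A l) (hh : h * h = 1) (hhl : h • l = l) :
    h * a * h ∈ A l := by
  have := D.A_conj h hl ha
  rwa [hhl, inv_eq_of_mul_eq_one_left hh] at this

theorem A_fix {l : M} {a : H} (hl : l ∈ L) (ha : a ∈ A l) : a • l = l := D.fix hl ha (D.self hl)

theorem al_I_one {l u : M} (hl : l ∈ L) (hu : u ∈ I l) : al l u = 1 :=
  (D.al_ker hl u).2 fun _ ha => Or.inl (D.fix hl ha hu)

theorem ne_zero {l : M} (hl : l ∈ L) : l ≠ 0 := fun e => D.zero (e ▸ hl)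

theorem al_zero {l : M} (hl : l ∈ L) : al l 0 = 1 := D.al_I_one hl (I l).zero_mem

/-- (0.1) -/
theorem mem_I {l m : M} {a : H} (hl : l ∈ L) (hm : m ∈ L) (ha1 : a ≠ 1) (ha : a ∈ A l) (ha' : a ∈ A m) : m ∈ I l := by
  obtain ⟨e, -, he⟩ := D.phi hm ha' ha1
  have h := D.comm hl ha e
  rw [he, add_comm e m, add_assoc, D.two, add_zero] at h
  exact h

/-- `[ab, m] = [a, m] + [b, m]` -/
theorem K_mul {l : M} {a b : H} (hl : l ∈ L) (ha : a ∈ A l) (hb : b ∈ A l) (m : M) :
    (a * b) • m + m = (a • m + m) + (b • m + m) := by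
  have h1 : a • (b • m + m) = b • m + m := D.fix hl ha (D.comm hl hb m)
  rw [mul_smul]
  calc a • (b • m) + m = a • (b • m + m) + (a • m + m) := by
        rw [smul_add, add_assoc, ← add_assoc (a • m), D.two, zero_add]
    _ = (a • m + m) + (b • m + m) := by rw [h1, add_comm]

/-- a functional which kills `n` and not `a` -/
theorem exists_fun {l : M} {a n : H} (hl : l ∈ L) (ha : a ∈ A l) (hn : n ∈ A l) (ha1 : a ≠ 1) (han : a ≠ n) :
    ∃ e, al l e = 1 ∧ n • e = e ∧ a • e = e + l := by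
  obtain ⟨e₁, h1, h2⟩ := D.phi hl ha ha1
  rcases (D.al_ker hl e₁).mp h1 n hn with h3 | h3
  · exact ⟨e₁, h1, h3, h2⟩
  have hna : n * a ≠ 1 := by
    intro e
    apply han
    have := eq_inv_of_mul_eq_one_right e
    rwa [D.inv hl hn] at this
  obtain ⟨e₂, h4, h5⟩ := D.phi hl (mul_mem hn ha) hna
  have hnl := D.A_fix hl hn
  have hal := D.A_fix hl ha
  rcases (D.al_ker hl e₂).mp h4 a ha with h6 | h6
  · have h7 : n • e₂ = e₂ + l := by rw [mul_smul, h6] at h5; exact h5
    refine ⟨e₁ + e₂, by rw [D.al_add hl, h1, h4, one_mul], ?_, ?_⟩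
    · rw [smul_add, h3, h7]
      calc e₁ + l + (e₂ + l) = e₁ + e₂ + (l + l) := by abel
        _ = e₁ + e₂ := by rw [D.two, add_zero]
    · rw [smul_add, h2, h6]; abel
  · refine ⟨e₂, h4, ?_, h6⟩
    rw [mul_smul, h6, smul_add, hnl] at h5
    exact add_right_cancel h5

/-- **(S2)** -/
theorem fix_cases {l m : M} {a : H} (hl : l ∈ L) (hm : m ∈ L) (h : al l m ≠ 1) (h' : al m l ≠ 1) (ha : a ∈ A l)
    (ham : a • m = m) : a = 1 ∨ a = al l m := by
  by_contra hcon
  push Not at hcon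
  obtain ⟨e, h1, h2, h3⟩ := D.exists_fun hl ha (D.al_mem hl m) hcon.1 hcon.2
  obtain ⟨j, hj, -, hja⟩ := D.s1 hl hm h h' h1 h2
  have h4 := hja a ha
  rw [h3, add_comm e l, add_assoc, D.two, add_zero] at h4
  apply h'
  apply D.al_I_one hm
  rw [← h4]
  refine add_mem ?_ hj
  have := D.I_conj a hm hj
  rwa [ham] at this

/-- **(2.1)** -/
theorem two_one {l m : M} {a : H} (hl : l ∈ L) (hm : m ∈ L) (h : al l m ≠ 1) (h' : al m l ≠ 1) (ha : a ∈ A l) :
    al m l * a * al m l = a ∨ al m l * a * al m l = a * al l m := by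
  set b := al l m with hb
  set c := al m l with hc
  have hbA : b ∈ A l := D.al_mem hl m
  have hcA : c ∈ A m := D.al_mem hm l
  have hcc := D.sq hm hcA
  have hcl : c • l = l := (D.part hm hl h' h).1
  have haa := D.sq hl ha
  have hca : c * a * c ∈ A l := D.A_conj' hl ha hcc hcl
  by_contra hcon
  push Not at hcon
  have h1 : a * (c * a * c) ≠ 1 := by
    intro e
    apply hcon.1
    have := eq_inv_of_mul_eq_one_right e
    rwa [D.inv hl ha] at this
  have h2 : a * (c * a * c) ≠ b := by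
    intro e
    apply hcon.2
    rw [← e, ← mul_assoc, haa, one_mul]
  obtain ⟨e, h3, h4, h5⟩ := D.exists_fun hl (mul_mem ha hca) hbA h1 h2
  obtain ⟨j, hj, -, hja⟩ := D.s1 hl hm h h' h3 h4
  have h6 := hja _ (mul_mem ha hca)
  rw [h5, add_comm e l, add_assoc, D.two, add_zero] at h6
  -- `a (c a c) j = j`
  have h7 : c • j = j := D.fix hm hcA hj
  have h8 : a • j = j + (a • e + e) := by
    rw [← hja a ha, add_comm (a • j), ← add_assoc, D.two, zero_add]
  have h9 : ∀ x : H, x • l = l → x • (a • e + e) = a • e + e := by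
    intro x hx
    rcases (D.al_ker hl e).mp h3 a ha with e1 | e1
    · rw [e1, D.two, smul_zero]
    · rw [e1, add_comm e l, add_assoc, D.two, add_zero, hx]
  have h10 : (a * (c * a * c)) • j = j := by
    rw [mul_smul, mul_smul, mul_smul, h7, h8, smul_add, h7, h9 c hcl, smul_add, h9 a (D.A_fix hl ha), h8,
      add_assoc, D.two, add_zero]
  rw [h10, D.two] at h6
  exact D.ne_zero hl h6.symm

/-- `b` and `b₂` commute -/
theorem two_comm {l m : M} (hl : l ∈ L) (hm : m ∈ L) (h : al l m ≠ 1) (h' : al m l ≠ 1) :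
    al l m * al m l = al m l * al l m := by
  have hbA : al l m ∈ A l := D.al_mem hl m
  have hcA : al m l ∈ A m := D.al_mem hm l
  have hcc := D.sq hm hcA
  rcases D.two_one hl hm h h' hbA with e | e
  · calc al l m * al m l = (al m l * al l m * al m l) * al m l := by rw [e]
      _ = al m l * al l m * (al m l * al m l) := by group
      _ = al m l * al l m := by rw [hcc, mul_one]
  · exfalso
    apply h
    rw [D.sq hl hbA] at e
    calc al l m = al m l * (al m l * al l m * al m l) * al m l := by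
          calc al l m = (al m l * al m l) * al l m * (al m l * al m l) := by rw [hcc]; group
            _ = _ := by group
      _ = 1 := by rw [e, mul_one, hcc]

/-- `b₂` does not centralise `A l` -/
theorem two_move {l m : M} (hl : l ∈ L) (hm : m ∈ L) (h : al l m ≠ 1) (h' : al m l ≠ 1) :
    ∃ a ∈ A l, al m l * a * al m l = a * al l m := by
  by_contra hcon
  push Not at hcon
  have hcA : al m l ∈ A m := D.al_mem hm l
  have hcl : al m l • l = l := (D.part hm hl h' h).1
  obtain ⟨e, -, he⟩ := D.phi hm hcA h'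
  have h1 : al l (al m l • e) = al m l * al l e * (al m l)⁻¹ := D.al_conj hl hcl e
  have h2 := (D.two_one hl hm h h' (D.al_mem hl e)).resolve_right (hcon _ (D.al_mem hl e))
  rw [D.inv hm hcA, h2, he, D.al_add hl] at h1
  exact h (mul_eq_left.mp h1)

/-- **(2.2)** -/
theorem two_two {l m : M} {a : H} (hl : l ∈ L) (hm : m ∈ L) (h : al l m ≠ 1) (h' : al m l ≠ 1) (ha : a ∈ A l)
    (hac : al m l * a * al m l = a * al l m) : a • m + m ∈ L ∧ al l m ∈ A (a • m + m) := by
  obtain ⟨a', ha', hac'⟩ := D.two_move hm hl h' h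
  have hcomm := D.two_comm hl hm h h'
  set b := al l m with hb
  set c := al m l with hc
  have hbA : b ∈ A l := D.al_mem hl m
  have hcA : c ∈ A m := D.al_mem hm l
  have hbb := D.sq hl hbA
  have hcc := D.sq hm hcA
  have haa := D.sq hl ha
  have haa' := D.sq hm ha'
  have hai := D.inv hl ha
  have hai' := D.inv hm ha'
  -- `a c a = b c`
  have h1 : a * c * a⁻¹ = b * c := by
    have h2 : c * a = a * b * c := by
      calc c * a = c * a * c * c := by rw [mul_assoc _ c c, hcc, mul_one]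
        _ = a * b * c := by rw [hac]
    calc a * c * a⁻¹ = a * (c * a) := by rw [hai]; group
      _ = (a * a) * (b * c) := by rw [h2]; group
      _ = b * c := by rw [haa, one_mul]
  -- `a' b a' = b c`
  have h2 : a' * b * a'⁻¹ = b * c := by
    have h3 : b * a' = a' * c * b := by
      calc b * a' = b * a' * b * b := by rw [mul_assoc _ b b, hbb, mul_one]
        _ = a' * c * b := by rw [hac']
    calc a' * b * a'⁻¹ = a' * (b * a') := by rw [hai']; group
      _ = (a' * a') * (c * b) := by rw [h3]; group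
      _ = b * c := by rw [haa', one_mul, hcomm]
  have h3 : b * c ∈ A (a • m) := by rw [← h1]; exact D.A_conj a hm hcA
  have hmp := D.smul a hm
  have h4 : b ∈ A (a' • (a • m)) := by
    have h5 := D.A_conj a' hmp h3
    have h6 : a' * (b * c) * a'⁻¹ = b := by
      have h7 : a' * c * a'⁻¹ = c := by rw [D.A_comm hm ha' hcA, mul_inv_cancel_right]
      calc a' * (b * c) * a'⁻¹ = (a' * b * a'⁻¹) * (a' * c * a'⁻¹) := by group
        _ = b * (c * c) := by rw [h2, h7]; group
        _ = b := by rw [hcc, mul_one]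
    rwa [h6] at h5
  have hr := D.smul a' hmp
  set κ := a • m + m with hκ
  have hκI : κ ∈ I l := D.comm hl ha m
  have hκm : al m κ = 1 := (D.part hl hm h h').2 a ha
  have ham : a • m = m + κ := by rw [hκ, add_comm (a • m), D.two_left]
  -- `r = m + κ` or `r = κ`
  have hr1 : a' • (a • m) = m + κ ∨ a' • (a • m) = κ := by
    rw [ham, smul_add, D.A_fix hm ha']
    rcases (D.al_ker hm κ).mp hκm a' ha' with e | e
    · left; rw [e]
    · right; rw [e, add_comm κ m, D.two_left]
  have hrl : l ≠ a' • (a • m) := by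
    intro e
    apply h'
    have h5 : a • m = a' • l := by
      rw [e, ← mul_smul, haa', one_smul]
    have h6 : a' • l + l ∈ I m := D.comm hm ha' l
    have h7 : l = (m + κ) + (a' • l + l) := by
      rw [← ham, h5, D.two_left]
    have h8 : al m l = 1 := by
      rw [h7, D.al_add hm, D.al_add hm, D.al_I_one hm (D.self hm), hκm, D.al_I_one hm h6]
      simp
    exact h8
  have hrI : a' • (a • m) ∈ I l := D.mem_I hl hr h hbA h4
  rcases hr1 with e | e
  · exfalso
    apply h
    apply D.al_I_one hl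
    rw [e] at hrI
    have := add_mem hrI hκI
    rwa [add_assoc, D.two, add_zero] at this
  · rw [e] at hr h4
    exact ⟨hr, h4⟩

/-- `S(b)` -/
def Sb {b : H} (hb : b ≠ 1) : AddSubgroup M where
  carrier := {m | m = 0 ∨ (m ∈ L ∧ b ∈ A m)}
  zero_mem' := Or.inl rfl
  add_mem' := by
    rintro x y (rfl | ⟨hx, hx'⟩) (rfl | ⟨hy, hy'⟩)
    · left; simp
    · right; rw [zero_add]; exact ⟨hy, hy'⟩
    · right; rw [add_zero]; exact ⟨hx, hx'⟩
    · by_cases hxy : x = y
      · left; rw [hxy, D.two]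
      · right; exact D.plane hx hy hxy hb hx' hy'
  neg_mem' := by
    intro x hx
    have : -x = x := neg_eq_of_add_eq_zero_right (D.two x)
    rwa [this]

theorem mem_Sb {b : H} (hb : b ≠ 1) {m : M} : m ∈ D.Sb hb ↔ m = 0 ∨ (m ∈ L ∧ b ∈ A m) := Iff.rfl

/-- **(2.3)** -/
theorem two_three {l m : M} {a : H} (hl : l ∈ L) (hm : m ∈ L) (h : al l m ≠ 1) (h' : al m l ≠ 1) (ha : a ∈ A l) :
    a • m + m ∈ D.Sb h := by
  have key : ∀ {x : H}, x ∈ A l → al m l * x * al m l = x * al l m → x • m + m ∈ D.Sb h :=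
    fun {x} hx e => Or.inr (D.two_two hl hm h h' hx e)
  rcases D.two_one hl hm h h' ha with e | e
  · obtain ⟨a₁, ha₁, e₁⟩ := D.two_move hl hm h h'
    have hcc := D.sq hm (D.al_mem hm l)
    have h1 : (a * a₁) • m + m ∈ D.Sb h := by
      refine key (mul_mem ha ha₁) ?_
      calc al m l * (a * a₁) * al m l = (al m l * a * al m l) * (al m l * a₁ * al m l) := by
            calc al m l * (a * a₁) * al m l = al m l * a * 1 * a₁ * al m l := by group
              _ = al m l * a * (al m l * al m l) * a₁ * al m l := by rw [hcc]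
              _ = _ := by group
        _ = a * a₁ * al l m := by rw [e, e₁]; group
    have h2 := add_mem h1 (key ha₁ e₁)
    rw [D.K_mul hl ha ha₁, add_assoc, D.two, add_zero] at h2
    exact h2
  · exact key ha e

theorem card_A [Finite H] {l m : M} (hl : l ∈ L) (hm : m ∈ L) : Nat.card (A l) ≤ Nat.card (A m) := by
  obtain ⟨h, rfl⟩ := D.trans hl hm
  let f : A l → A (h • l) := fun a => ⟨h * a * h⁻¹, D.A_conj h hl a.2⟩
  refine Nat.card_le_card_of_injective f fun a b hab => ?_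
  have e : h * (a : H) * h⁻¹ = h * b * h⁻¹ := congrArg Subtype.val hab
  exact Subtype.ext (mul_left_cancel (mul_right_cancel e))

/-- THEOREM P, one inclusion -/
theorem inj_le [Finite H] {l m : M} (hl : l ∈ L) (hm : m ∈ L) (h : A l ≤ A m) : l = m :=
  D.inj hl hm (Subgroup.eq_of_le_of_card_ge h (D.card_A hm hl))

end

end Dat

end Cfsg.Agent.Omega.NO3S.TwoOne.PE
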