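import Cfsg.Agent.Omega.NO3S.TwoOne.PE.Main
import Cfsg.Agent.Omega.NO3S.TwoOne.PP.Base
import Cfsg.Agent.Omega.NO3S.TwoOne.SigM

/-!
# NO-3S, `TwoOne` / `CompP`, no `λ`-transvections, `|A| ≥ 4` (helper409's #19417): glue, pure form

over helper885's structure `PP.Gen`:

* `PP.Gen.toSK` : helper867's `SK`; `PP.Gen.sgm` : SIGMA_k;
* `PP.Gen.toPE`, `PP.Gen.false_of_part` : every S-pair partial: no S-pair;
* `PP.Gen.part_of_six`, `PP.Gen.six_false` : section 4 (`D_x > I`).
-/

set_option autoImplicit false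
set_option linter.unusedSimpArgs false
set_option linter.unusedSectionVars false

namespace Cfsg.Agent.Omega.NO3S.TwoOne.PP.Gen

open Cfsg.Agent.Omega.NO3S.TwoOne

variable {M H : Type*} [AddCommGroup M] [Group H] [DistribMulAction H M] {L : Set M} {A : M → Subgroup H}
    {I : M → AddSubgroup M} {al : M → M → H} (G : Gen L A I al)
include G

theorem toSK : SK L A I al where
  two := G.two
  ne0 := fun hl => G.ne_zero hl
  smul := G.smul
  A_conj := G.A_conj
  I_conj := G.I_conj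
  sq := G.sq
  four := G.four
  self := G.self
  fix := G.fix
  al_mem := G.al_mem
  al_add := G.al_add
  al_conj := fun h hl m => G.al_smul h hl m
  al_ker := G.al_ker
  phi := G.phi
  s1 := fun {_ _ e} hl hm h h' he hne => G.s1 hl hm h h' e he hne
  s3 := fun {l m a} hl hm h h' ha hna => by
    obtain ⟨e, he, hne⟩ := G.phi hl (G.al_mem hl m) h
    obtain ⟨j, hj, hj1, hjb⟩ := G.s3 hl hm h h' ⟨a, ha, hna⟩ e he
    refine ⟨j, hj, hj1, ?_⟩
    have h1 := hjb _ (G.al_mem hl m)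
    rw [hne, add_comm e l, add_assoc, G.two, add_zero] at h1
    exact G.eq_add_of h1

/-- SIGMA_k -/
theorem sgm {l : M} {a o : H} (hl : l ∈ L) (ha : a ∈ A l) (ha1 : a ≠ 1) (ho : o ≠ 1) (hodd : Odd (orderOf o))
    (hinv : a * o * a⁻¹ = o⁻¹) : o * o * o = 1 ∧ a • (o • l) = o • l + l ∧ al l (o • l) = 1 := by
  obtain ⟨h1, h2, h3, -⟩ := G.toSK.sigma hl ha ha1 hodd (pow_orderOf_eq_one o) ho hinv
  refine ⟨?_, h3, h2⟩
  rwa [pow_succ, pow_succ, pow_one] at h1

/-- helper396's record -/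
theorem toPE [Finite H] (part : ∀ {l m : M}, l ∈ L → m ∈ L → al l m ≠ 1 → al m l ≠ 1 →
    al l m • m = m ∧ ∀ a ∈ A l, al m (a • m + m) = 1) : PE.Dat L A I al where
  two := G.two
  zero := G.zero
  smul := G.smul
  trans := G.trans
  A_conj := G.A_conj
  I_conj := G.I_conj
  sq := G.sq
  self := G.self
  comm := G.comm
  fix := G.fix
  al_mem := G.al_mem
  al_add := G.al_add
  al_conj := fun hl hh m => G.al_conj hl hh m
  al_ker := G.al_ker
  sy := G.sy
  phi := G.phi
  plane := fun hl hm hne ha1 ha ha' => G.tri hl hm hne ha ha' ha1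
  inj := fun hl hm he => G.inj hl hm (le_of_eq he)
  s1 := fun {_ _ e} hl hm h h' he hne => G.s1 hl hm h h' e he hne
  bs := fun hl ha ha1 => by
    obtain ⟨o, h1, h2, h3⟩ := G.bs hl ha ha1
    exact ⟨o, h1, h2, by rwa [G.inv hl ha]⟩
  sigma := fun hl ha ha1 ho hodd hinv => G.sgm hl ha ha1 ho hodd hinv
  part := part

/-- **#19417, sections 2, 3** -/
theorem false_of_part [Finite H] (part : ∀ {l m : M}, l ∈ L → m ∈ L → al l m ≠ 1 → al m l ≠ 1 →
    al l m • m = m ∧ ∀ a ∈ A l, al m (a • m + m) = 1) {l m : M} (hl : l ∈ L) (hm : m ∈ L)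
    (h : al l m ≠ 1) (h' : al m l ≠ 1) : False := (G.toPE part).false hl hm h h'

/-- some `m ∈ L` is not in `E l` -/
theorem exists_far [Finite H] {l : M} (hl : l ∈ L) : ∃ m ∈ L, al l m ≠ 1 := by
  by_contra hcon
  push Not at hcon
  obtain ⟨a, ha, ha1⟩ := G.exists_ne hl
  obtain ⟨x, hx⟩ := G.al_surj hl ha
  apply ha1
  rw [← hx]
  have h1 : x ∈ AddSubgroup.closure L := by rw [G.gen]; trivial
  refine AddSubgroup.closure_induction (p := fun x _ => al l x = 1) (fun y hy => hcon y hy) (G.al_zero hl)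
    (fun a b _ _ ha hb => by rw [G.al_add hl, ha, hb, one_mul]) (fun a _ ha => ?_) h1
  have : -a = a := neg_eq_of_add_eq_zero_right (G.two a)
  rw [this]; exact ha

/-- `[A_l, m] ≤ E_m` : the pair is partial (section 1) -/
theorem part_of {l m : M} (hl : l ∈ L) (hm : m ∈ L) (h : al l m ≠ 1) (h' : al m l ≠ 1)
    (hp : ∀ a ∈ A l, al m (a • m + m) = 1) : al l m • m = m := by
  have hk : ∀ x, al m (al l x • m + m + l) ≠ 1 := by
    intro x e
    rw [G.al_add hm, hp _ (G.al_mem hl x), one_mul] at e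
    exact h' e
  by_cases hq : ∀ x, al l x • x = x ∨ al l x • x = x + l
  · rcases hq m with e | e
    · exact e
    · exfalso
      have h1 := hp _ (G.al_mem hl m)
      rw [e, add_comm m l, add_assoc, G.two, add_zero] at h1
      exact h' h1
  · push Not at hq
    obtain ⟨x, h1, h2⟩ := hq
    obtain ⟨u, hu, hu', hu0⟩ := G.kappa hl hm h h' x h1 h2 (hk x)
    exact G.alpha hl hm h h' u hu hu' hu0

/-- (N6) implies that every S-pair is partial -/
theorem part_of_six (six : ∀ {l m : M} {a : H}, l ∈ L → m ∈ L → al l m ≠ 1 → a ∈ A m → al l (a • l + l) = 1)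
    {l m : M} (hl : l ∈ L) (hm : m ∈ L) (h : al l m ≠ 1) (h' : al m l ≠ 1) :
    al l m • m = m ∧ ∀ a ∈ A l, al m (a • m + m) = 1 := by
  have h1 : ∀ a ∈ A l, al m (a • m + m) = 1 := fun a ha => six hm hl h' ha
  exact ⟨G.part_of hl hm h h' h1, h1⟩

/-- **#19417, section 4** (`D_x > I`) -/
theorem six_false [Finite H]
    (six : ∀ {l m : M} {a : H}, l ∈ L → m ∈ L → al l m ≠ 1 → a ∈ A m → al l (a • l + l) = 1)
    (sym : ∀ {l m : M}, l ∈ L → m ∈ L → al l m = 1 → al m l = 1) {l : M} (hl : l ∈ L) : False := by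
  obtain ⟨m, hm, h⟩ := G.exists_far hl
  exact G.false_of_part (fun hl hm h h' => G.part_of_six six hl hm h h') hl hm h fun e => h (sym hm hl e)

end Cfsg.Agent.Omega.NO3S.TwoOne.PP.Gen
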