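import Cfsg.Agent.Omega.NO3S.TwoOne.PE.Base

/-!
# NO-3S, `TwoOne` / `CompP`, no `λ`-transvections, `|A| ≥ 4`: every S-pair partial is impossible
(helper409's text, bb OMEGA #19417, section 3), pure form

* `Dat.exists_three` : `b ∈ A l`, `l, m, m' ∈ S(b)` independent;
* `Dat.false` : no S-pair.
-/

set_option autoImplicit false
set_option linter.unusedSimpArgs false
set_option linter.unusedSectionVars false

namespace Cfsg.Agent.Omega.NO3S.TwoOne.PE.Dat

variable {M H : Type*} [AddCommGroup M] [Group H] [DistribMulAction H M] {L : Set M} {A : M → Subgroup H}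
    {I : M → AddSubgroup M} {al : M → M → H}

theorem conj_smul_smul (g x : H) (v : M) : g • x • v = (g * x * g⁻¹) • g • v := by
  rw [mul_smul, mul_smul, inv_smul_smul]

/-- `b` and the odd element `o` -/
structure Odd3 (b o : H) : Prop where
  o1 : o ≠ 1
  odd : Odd (orderOf o)
  inv : b * o * b⁻¹ = o⁻¹
  b1 : b ≠ 1

section

variable (D : Dat L A I al)
include D

/-- SIGMA_k for `o` -/
theorem sg {l : M} {b o : H} (E : Odd3 b o) (hl : l ∈ L) (hb : b ∈ A l) :
    o * o * o = 1 ∧ b • (o • l) = o • l + l ∧ al l (o • l) = 1 := D.sigma hl hb E.b1 E.o1 E.odd E.inv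

/-- SIGMA_k for `o⁻¹` -/
theorem sg' {l : M} {b o : H} (E : Odd3 b o) (hl : l ∈ L) (hb : b ∈ A l) :
    b • (o⁻¹ • l) = o⁻¹ • l + l ∧ al l (o⁻¹ • l) = 1 := by
  refine (D.sigma hl hb E.b1 (fun e => E.o1 (inv_eq_one.mp e)) ?_ ?_).2
  · rw [orderOf_inv]; exact E.odd
  · rw [← E.inv]
    have := E.inv
    calc b * (b * o * b⁻¹) * b⁻¹ = b * o⁻¹ * b⁻¹ := by rw [this]
      _ = (b * o * b⁻¹)⁻¹ := by group
      _ = (b * o * b⁻¹)⁻¹ := rfl

/-- `l ≠ m` in `S(b)`: `(l, o m)` is an S-pair -/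
theorem sp1 {l m : M} {b o : H} (E : Odd3 b o) (hl : l ∈ L) (hm : m ∈ L) (hlm : l ≠ m) (hb : b ∈ A l)
    (hb' : b ∈ A m) : al l (o • m) ≠ 1 := by
  intro h
  have h1 := (D.sg E hm hb').2.1
  rcases (D.al_ker hl _).mp h b hb with e | e
  · rw [h1] at e
    exact D.ne_zero hm (by simpa using e)
  · rw [h1] at e
    exact hlm (add_left_cancel e).symm

theorem sp2 {l m : M} {b o : H} (E : Odd3 b o) (hl : l ∈ L) (hm : m ∈ L) (hlm : l ≠ m) (hb : b ∈ A l)
    (hb' : b ∈ A m) : al (o • m) l ≠ 1 := by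
  intro h
  have h1 := (D.sg' E hl hb).1
  have h2 : (o * b * o⁻¹) • l = l + o • l := by
    rw [mul_smul, mul_smul, h1, smul_add, smul_inv_smul]
  rcases (D.al_ker (D.smul o hm) _).mp h _ (D.A_conj o hm hb') with e | e
  · rw [h2] at e
    exact D.ne_zero (D.smul o hl) (by simpa using e)
  · rw [h2] at e
    have h3 := add_left_cancel e
    exact hlm (smul_left_cancel o h3)

/-- the facts on `c = al l (o m)`, `l ≠ m` in `S(b)` -/
structure CC (b o : H) (l m : M) (A : M → Subgroup H) (al : M → M → H) (c : H) : Prop where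
  eq : c = al l (o • m)
  ne : c ≠ 1
  mem : c ∈ A l
  mem' : c ∈ A m
  neb : c ≠ b
  fm : c • (o • m) = o • m
  fl : c • (o • l) = o • l
  /-- `c₁ = o c o⁻¹`, `c₂ = o⁻¹ c o` -/
  prod : c = (o * c * o⁻¹) * (o⁻¹ * c * o)
  swap : b * (o * c * o⁻¹) * b = o⁻¹ * c * o

theorem cc [Finite H] {l m : M} {b o : H} (E : Odd3 b o) (hl : l ∈ L) (hm : m ∈ L) (hlm : l ≠ m) (hb : b ∈ A l)
    (hb' : b ∈ A m) : CC b o l m A al (al l (o • m)) := by
  have hom := D.smul o hm
  have hol := D.smul o hl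
  have hn := D.sp1 E hl hm hlm hb hb'
  have hn' := D.sp2 E hl hm hlm hb hb'
  have hooo := (D.sg E hl hb).1
  have hbl := (D.sg E hl hb).2.1
  have hbm := (D.sg E hm hb').2.1
  have hbb := D.sq hl hb
  have hbi := D.inv hl hb
  obtain ⟨c, hc⟩ : ∃ c, c = al l (o • m) := ⟨_, rfl⟩
  have hcA : c ∈ A l := by rw [hc]; exact D.al_mem hl _
  have hc1 : c ≠ 1 := by rw [hc]; exact hn
  have hfm : c • (o • m) = o • m := by rw [hc]; exact (D.part hl hom hn hn').1
  have hneb : c ≠ b := by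
    intro e
    rw [e, hbm] at hfm
    exact D.ne_zero hm (by simpa using hfm)
  -- `c ∈ A m`
  have hcm : c ∈ A m := by
    have h1 := D.two_three hl hom hn hn' hb
    rw [hbm] at h1
    have h2 : o • m + m + o • m = m := by
      calc o • m + m + o • m = m + (o • m + o • m) := by abel
        _ = m := by rw [D.two, add_zero]
    rw [h2] at h1
    rcases h1 with e | e
    · exact absurd e (D.ne_zero hm)
    · rw [hc]; exact e.2
  -- `c` fixes `o l`
  have hfl : c • (o • l) = o • l := by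
    obtain ⟨hlmL, hclm⟩ := D.plane hl hm hlm hc1 hcA hcm
    obtain ⟨-, hblm⟩ := D.plane hl hm hlm E.b1 hb hb'
    rcases (D.al_ker hl _).mp (D.sg E hl hb).2.2 c hcA with e | e
    · exact e
    · exfalso
      have h1 : c • (o • (l + m)) = o • (l + m) + l := by
        rw [smul_add, smul_add, e, hfm]; abel
      rcases (D.al_ker hlmL _).mp (D.sg E hlmL hblm).2.2 c hclm with e' | e'
      · rw [h1] at e'
        exact D.ne_zero hl (by simpa using e')
      · rw [h1] at e'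
        have h2 := add_left_cancel e'
        have h3 : m = 0 := by
          have : l + 0 = l + m := by rw [add_zero]; exact h2
          exact (add_left_cancel this).symm
        exact D.ne_zero hm h3
  have hcb : c * b = b * c := D.A_comm hl hcA hb
  have hcc := D.sq hl hcA
  have hci := D.inv hl hcA
  -- `b o b = o⁻¹`
  have hbo : b * o = o⁻¹ * b := by
    have := E.inv
    rw [← this]; group
  have hbo' : b * o⁻¹ = o * b := by
    calc b * o⁻¹ = b * (o⁻¹ * b) * b := by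
          calc b * o⁻¹ = b * o⁻¹ * (b * b) := by rw [hbb, mul_one]
            _ = b * (o⁻¹ * b) * b := by group
      _ = b * (b * o) * b := by rw [hbo]
      _ = (b * b) * (o * b) := by group
      _ = o * b := by rw [hbb, one_mul]
  have hfl' : c • (o⁻¹ • l) = o⁻¹ • l := by
    have h1 : o⁻¹ • l = b • (o • l) := by
      calc o⁻¹ • l = (o⁻¹ * b) • l := by rw [mul_smul, D.A_fix hl hb]
        _ = b • (o • l) := by rw [← hbo, mul_smul]
    rw [h1, ← mul_smul, hcb, mul_smul, hfl]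
  have hswap : b * (o * c * o⁻¹) * b = o⁻¹ * c * o := by
    calc b * (o * c * o⁻¹) * b = (b * o) * c * (o⁻¹ * b) := by group
      _ = (o⁻¹ * b) * c * (b * o) := by rw [hbo]
      _ = o⁻¹ * (b * c) * b * o := by group
      _ = o⁻¹ * (c * b) * b * o := by rw [hcb]
      _ = o⁻¹ * c * (b * b) * o := by group
      _ = o⁻¹ * c * o := by rw [hbb, mul_one]
  set c₁ := o * c * o⁻¹ with hc₁
  set c₂ := o⁻¹ * c * o with hc₂
  have hc₁A : c₁ ∈ A (o • l) := D.A_conj o hl hcA
  have hc₁c₁ := D.sq hol hc₁A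
  have hc₁i := D.inv hol hc₁A
  have hc₁l : c₁ • l = l := by
    rw [hc₁, mul_smul, mul_smul, hfl', smul_inv_smul]
  -- `A l ∩ A (o l) = 1`
  have htriv : ∀ x, x ∈ A l → x ∈ A (o • l) → x = 1 := by
    intro x hx hx'
    by_contra hx1
    have h1 := D.mem_I hl hol hx1 hx hx'
    have h2 := D.fix hl hb h1
    rw [hbl] at h2
    exact D.ne_zero hl (by simpa using h2)
  have hcc₁ : c * c₁ = c₁ * c := by
    have h1 : c₁ * c * c₁ ∈ A l := D.A_conj' hl hcA hc₁c₁ hc₁l
    have h2 : c * c₁ * c ∈ A (o • l) := D.A_conj' hol hc₁A hcc hfl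
    have h3 : c * (c₁ * c * c₁) = 1 := by
      refine htriv _ (mul_mem hcA h1) ?_
      have : (c * c₁ * c) * c₁ ∈ A (o • l) := mul_mem h2 hc₁A
      have e : c * (c₁ * c * c₁) = (c * c₁ * c) * c₁ := by group
      rw [e]; exact this
    calc c * c₁ = c * c₁ * (c * (c₁ * c * c₁))⁻¹ := by rw [h3, inv_one, mul_one]
      _ = c₁⁻¹ * c⁻¹ := by group
      _ = c₁ * c := by rw [hc₁i, hci]
  -- `c₁ c₂ ∈ A l`
  have hc₁c₂ : c₁ * c₂ ∈ A l := by
    have h1 : c₁ * b * c₁ ∈ A l := D.A_conj' hl hb hc₁c₁ hc₁l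
    have h2 : c₁ * c₂ = (c₁ * b * c₁) * b := by rw [← hswap]; group
    rw [h2]; exact mul_mem h1 hb
  -- `c₂ c ∈ A (o l)`
  have hoi : o * o = o⁻¹ := eq_inv_of_mul_eq_one_left hooo
  have hoi' : o⁻¹ * o⁻¹ = o := by
    rw [← mul_inv_rev, hoi, inv_inv]
  have hc₂c : c₂ * c ∈ A (o • l) := by
    have h1 := D.A_conj o hl hc₁c₂
    have h2 : o * (c₁ * c₂) * o⁻¹ = c₂ * c := by
      calc o * (c₁ * c₂) * o⁻¹ = (o * o) * c * (o⁻¹ * o⁻¹) * (o * o⁻¹) * c * (o * o⁻¹) := by
            rw [hc₁, hc₂]; group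
        _ = c₂ * c := by rw [hoi, hoi', hc₂]; group
    rwa [h2] at h1
  have hprod : c * (c₁ * c₂) = 1 := by
    refine htriv _ (mul_mem hcA hc₁c₂) ?_
    have h1 : c * (c₁ * c₂) = c₁ * (c₂ * c) := by
      rw [D.A_comm hl hcA hc₁c₂]; group
    rw [h1]; exact mul_mem hc₁A hc₂c
  have hcp : c = c₁ * c₂ := by
    have := eq_inv_of_mul_eq_one_right hprod
    rw [hci] at this
    exact this.symm
  rw [← hc]
  exact ⟨hc, hc1, hcA, hcm, hneb, hfm, hfl, hcp, hswap⟩

/-- (3.3): `D = [c, o m']` is fixed by `o` and lies in `S(c')` -/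
theorem dd [Finite H] {l m m' : M} {b o : H} (E : Odd3 b o) (hl : l ∈ L) (hm : m ∈ L) (hm' : m' ∈ L)
    (hlm : l ≠ m) (hlm' : l ≠ m') (hb : b ∈ A l) (hbm : b ∈ A m) (hbm' : b ∈ A m')
    (hne : al l (o • m) ≠ al l (o • m')) :
    al l (o • m) • (o • m') + o • m' ∈ L ∧ al l (o • m') ∈ A (al l (o • m) • (o • m') + o • m') ∧
      o • (al l (o • m) • (o • m') + o • m') = al l (o • m) • (o • m') + o • m' := by
  have C := D.cc E hl hm hlm hb hbm
  have hom' := D.smul o hm'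
  have hol := D.smul o hl
  have hn := D.sp1 E hl hm' hlm' hb hbm'
  have hn' := D.sp2 E hl hm' hlm' hb hbm'
  obtain ⟨c, hc⟩ : ∃ c, c = al l (o • m) := ⟨_, rfl⟩
  rw [← hc] at C hne ⊢
  have hooo := (D.sg E hl hb).1
  have hoi : o * o = o⁻¹ := eq_inv_of_mul_eq_one_left hooo
  have hoi' : o⁻¹ * o⁻¹ = o := by
    rw [← mul_inv_rev, hoi, inv_inv]
  have hbb := D.sq hl hb
  have hbi := D.inv hl hb
  set v := o • m' with hv
  set c₁ := o * c * o⁻¹ with hc₁
  set c₂ := o⁻¹ * c * o with hc₂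
  have hc₁A : c₁ ∈ A (o • l) := D.A_conj o hl C.mem
  have hb₁A : o * b * o⁻¹ ∈ A (o • l) := D.A_conj o hl hb
  have hvI : v ∈ I (o • l) := D.I_conj o hl (D.mem_I hl hm' E.b1 hb hbm')
  have hc₁v : c₁ • v = v := D.fix hol hc₁A hvI
  have hb₁v : (o * b * o⁻¹) • v = v := D.fix hol hb₁A hvI
  have hci := D.inv hl C.mem
  have hc₁i := D.inv hol hc₁A
  -- `c = c₂ c₁`
  have hc₂i : c₂⁻¹ = c₂ := by
    calc c₂⁻¹ = o⁻¹ * c⁻¹ * o := by rw [hc₂]; group
      _ = c₂ := by rw [hci]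
  have hp : c = c₂ * c₁ := by
    have h1 : c⁻¹ = c₂ * c₁ := by
      have h2 := congrArg (fun x => x⁻¹) C.prod
      rw [_root_.mul_inv_rev, hc₁i, hc₂i] at h2
      exact h2
    rwa [hci] at h1
  have hcv : c • v = c₂ • v := by
    rw [hp, mul_smul, hc₁v]
  have hD0 : c • v + v ≠ 0 := by
    intro e
    rcases D.fix_cases hl hom' hn hn' C.mem (D.eq_of_add e) with e1 | e1
    · exact C.ne e1
    · exact hne e1
  have hDS := D.two_three hl hom' hn hn' C.mem
  have hDS' := hDS.resolve_left hD0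
  refine ⟨hDS'.1, hDS'.2, ?_⟩
  -- `b` fixes `D`
  have hbD : b • (c • v + v) = c • v + v := D.fix hl hb (D.comm hl C.mem v)
  -- `b₁ c₂ b₁⁻¹ = c`
  have hb₁c₂ : (o * b * o⁻¹) * c₂ * (o * b * o⁻¹)⁻¹ = c := by
    calc (o * b * o⁻¹) * c₂ * (o * b * o⁻¹)⁻¹ = o * b * (o⁻¹ * o⁻¹) * c * (o * o) * b⁻¹ * o⁻¹ := by
          rw [hc₂]; group
      _ = o * (b * (o * c * o⁻¹) * b) * o⁻¹ := by rw [hoi, hoi', hbi]; group
      _ = o * (o⁻¹ * c * o) * o⁻¹ := by rw [C.swap]
      _ = c := by group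
  have hb₁D : (o * b * o⁻¹) • (c • v + v) = c • v + v := by
    rw [smul_add, hb₁v, hcv]
    have h1 : (o * b * o⁻¹) • c₂ • v = c • v := by
      calc (o * b * o⁻¹) • c₂ • v = ((o * b * o⁻¹) * c₂ * (o * b * o⁻¹)⁻¹) • ((o * b * o⁻¹) • v) :=
            conj_smul_smul _ _ _
        _ = c • v := by rw [hb₁c₂, hb₁v]
    rw [h1, hcv]
  generalize c • v + v = d at hbD hb₁D
  -- `o b o⁻¹ d = d`, `b d = d`
  have hbo' : b * o⁻¹ = o * b := by
    have hbo : b * o = o⁻¹ * b := by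
      have := E.inv
      rw [← this]; group
    calc b * o⁻¹ = b * (o⁻¹ * b) * b := by
          calc b * o⁻¹ = b * o⁻¹ * (b * b) := by rw [hbb, mul_one]
            _ = b * (o⁻¹ * b) * b := by group
      _ = b * (b * o) * b := by rw [hbo]
      _ = (b * b) * (o * b) := by group
      _ = o * b := by rw [hbb, one_mul]
  have h1 : (o * o) • d = d := by
    calc (o * o) • d = (o * (o * b)) • d := by
          rw [← mul_assoc, mul_smul (o * o) b, hbD]
      _ = (o * b * o⁻¹) • d := by rw [mul_assoc o b, hbo']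
      _ = d := hb₁D
  rw [hoi] at h1
  calc o • d = o • (o⁻¹ • d) := by rw [h1]
    _ = d := smul_inv_smul o d

/-- three independent elements of `S(b)`: contradiction -/
theorem three_false [Finite H] {l m m' : M} {b : H} (hl : l ∈ L) (hm : m ∈ L) (hm' : m' ∈ L) (hlm : l ≠ m)
    (hlm' : l ≠ m') (hmm : m ≠ m') (hmm' : l ≠ m + m') (hb1 : b ≠ 1) (hb : b ∈ A l) (hbm : b ∈ A m)
    (hbm' : b ∈ A m') : False := by
  obtain ⟨o, ho1, hodd, hinv⟩ := D.bs hl hb hb1
  have E : Odd3 b o := ⟨ho1, hodd, hinv, hb1⟩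
  obtain ⟨hsL, hsb⟩ := D.plane hm hm' hmm hb1 hbm hbm'
  -- `c ≠ c'`
  have hne : al l (o • m) ≠ al l (o • m') := by
    intro e
    apply D.sp1 E hl hsL hmm' hb hsb
    rw [smul_add, D.al_add hl, e]
    exact D.sq hl (D.al_mem hl _)
  have C := D.cc E hl hm hlm hb hbm
  obtain ⟨hD1, hD2, hD3⟩ := D.dd E hl hm hm' hlm hlm' hb hbm hbm' hne
  obtain ⟨hD1', hD2', hD3'⟩ := D.dd E hl hm' hm hlm' hlm hb hbm' hbm (Ne.symm hne)
  have hom' := D.smul o hm'
  -- `D = D'`
  have hDD : al l (o • m) • (o • m') + o • m' = al l (o • m') • (o • m) + o • m := by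
    rcases D.sy hl (o • m') (o • m) with e | e
    · exact D.eq_of_add e
    · exfalso
      have h1 : o • l = l := by
        rw [← e, smul_add, hD3, hD3']
      have h2 := (D.sg E hl hb).2.1
      rw [h1, D.A_fix hl hb, D.two] at h2
      exact D.ne_zero hl h2
  obtain ⟨d, hd⟩ : ∃ d, d = al l (o • m) • (o • m') + o • m' := ⟨_, rfl⟩
  rw [← hDD] at hD2'
  rw [← hd] at hD1 hD2 hD3 hD2'
  -- `m' ∈ I d`
  have hc'm' : al l (o • m') ∈ A m' := (D.cc E hl hm' hlm' hb hbm').mem'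
  have hc'1 := D.sp1 E hl hm' hlm' hb hbm'
  have h1 : m' ∈ I d := D.mem_I hD1 hm' hc'1 hD2 hc'm'
  have h2 : o • m' ∈ I d := by
    have := D.I_conj o hD1 h1
    rwa [hD3] at this
  have h3 := D.fix hD1 hD2' h2
  rw [h3, D.two] at hd
  exact D.ne_zero hD1 hd

/-- **THEOREM** (#19417, sections 2, 3): every S-pair partial: there is no S-pair -/
theorem false [Finite H] {l m : M} (hl : l ∈ L) (hm : m ∈ L) (h : al l m ≠ 1) (h' : al m l ≠ 1) : False := by
  obtain ⟨a₁, ha₁, e₁⟩ := D.two_move hl hm h h'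
  obtain ⟨hk, hbk⟩ := D.two_two hl hm h h' ha₁ e₁
  set b := al l m with hb
  set κ := a₁ • m + m with hκ
  have hbA : b ∈ A l := D.al_mem hl m
  have hκm : al m κ = 1 := (D.part hl hm h h').2 a₁ ha₁
  have hlκ : l ≠ κ := fun e => h' (by rw [e]; exact hκm)
  by_cases hex : ∃ a ∈ A l, a • m + m ≠ 0 ∧ a • m + m ≠ κ
  · obtain ⟨a, ha, h0, h1⟩ := hex
    have h2 := (D.two_three hl hm h h' ha).resolve_left h0
    have h3 : al m (a • m + m) = 1 := (D.part hl hm h h').2 a ha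
    refine D.three_false hl hk h2.1 hlκ (fun e => h' (by rw [e]; exact h3)) (Ne.symm h1) (fun e => h' ?_) h hbA hbk h2.2
    rw [e, D.al_add hm, hκm, h3, one_mul]
  · push Not at hex
    -- `A l = {1, b, a₁, a₁ b}`
    obtain ⟨o, ho1, hodd, hinv⟩ := D.bs hl hbA h
    have E : Odd3 b o := ⟨ho1, hodd, hinv, h⟩
    have C := D.cc E hl hk hlκ hbA hbk
    set n := al l (o • κ) with hn
    have key : ∀ a ∈ A l, (a = 1 ∨ a = b) ∨ (a * a₁ = 1 ∨ a * a₁ = b) := by
      intro a ha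
      by_cases h0 : a • m + m = 0
      · left; exact D.fix_cases hl hm h h' ha (D.eq_of_add h0)
      · right
        have h1 := hex a ha h0
        refine D.fix_cases hl hm h h' (mul_mem ha ha₁) ?_
        have h2 := D.K_mul hl ha ha₁ m
        rw [h1, ← hκ, D.two] at h2
        exact D.eq_of_add h2
    have ha₁κ : a₁ ∈ A κ := by
      rcases key n C.mem with (e | e) | (e | e)
      · exact absurd e C.ne
      · exact absurd e C.neb
      · have : a₁ = n := by
          have := eq_inv_of_mul_eq_one_right e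
          rwa [D.inv hl C.mem] at this
        rw [this]; exact C.mem'
      · have : a₁ = n * b := by
          rw [← e, ← mul_assoc, D.sq hl C.mem, one_mul]
        rw [this]; exact mul_mem C.mem' hbk
    apply hlκ
    refine D.inj_le hl hk fun a ha => ?_
    rcases key a ha with (e | e) | (e | e)
    · rw [e]; exact one_mem _
    · rw [e]; exact hbk
    · have : a = a₁ := by
        have := eq_inv_of_mul_eq_one_left e
        rwa [D.inv hl ha₁] at this
      rw [this]; exact ha₁κ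
    · have : a = b * a₁ := by
        rw [← e, mul_assoc, D.sq hl ha₁, mul_one]
      rw [this]; exact mul_mem hbk ha₁κ

end

end Cfsg.Agent.Omega.NO3S.TwoOne.PE.Dat
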